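import Mathlib
import Cfsg.Agent.Lib.MultC.ON.OutD
import Cfsg.Agent.Lib.MultC.ON.OutG0
import Cfsg.Agent.Lib.MultC.ON.OutC0
import Cfsg.Agent.Lib.MultC.ON.OutC1
import Cfsg.Agent.Lib.MultC.ON.OutC2
import Cfsg.Agent.Lib.MultC.ON.OutC3

/-! the outer automorphism group (generated certificate) -/

set_option autoImplicit false
set_option maxRecDepth 100000
set_option Elab.async false

namespace CfsgLib.MultC.ON.O

open CfsgLib.Comput CfsgLib.MultC

open CfsgLib.Fischer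

theorem realW {G Ω : Type*} [Group G] [MulAction G Ω] {pt : ℕ → Ω} (h : AllReal G 122760 pt V0) :
    AllReal G 122760 pt W := by
  have h0 : AllReal G 122760 pt U0 := h.append h.rev
  have k1 : AllReal G 122760 pt V1 := h0.words (by norm_num) v1
  have h1 : AllReal G 122760 pt U1 := h0.append (k1.append k1.rev)
  have k2 : AllReal G 122760 pt V2 := h1.words (by norm_num) v2
  have h2 : AllReal G 122760 pt U2 := h1.append (k2.append k2.rev)
  have k3 : AllReal G 122760 pt V3 := h2.words (by norm_num) v3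
  have h3 : AllReal G 122760 pt U3 := h2.append (k3.append k3.rev)
  have k4 : AllReal G 122760 pt V4 := AllReal.cons (h3.word (by norm_num) v4_0) (AllReal.cons (h3.word (by norm_num) v4_1) (AllReal.cons (h3.word (by norm_num) v4_2) (AllReal.nil)))
  have h4 : AllReal G 122760 pt U4 := h3.append (k4.append k4.rev)
  have k5 : AllReal G 122760 pt V5 := h4.words (by norm_num) v5
  have h5 : AllReal G 122760 pt U5 := h4.append (k5.append k5.rev)
  exact AllReal.append h (W' := Wr) (AllReal.append (AllReal.append (AllReal.append (AllReal.append (AllReal.append h.rev (k1.append k1.rev)) (k2.append k2.rev)) (k3.append k3.rev)) (k4.append k4.rev)) (k5.append k5.rev))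

theorem sets : setsOK (stepH W) 122760 L0 = true :=
  setsOK_cons lv0 (setsOK_cons lv1 (setsOK_cons lv2 (rfl)))

noncomputable def pa1 : CT := (.cat (.cat (.cat (.cat (.cat (.cat ta2 (.cat ta3 ta4)) (.cat (.cat ta5 ta6) (.cat ta7 ta8))) (.cat (.cat ta9 (.cat ta10 ta11)) (.cat (.cat ta12 ta13) (.cat ta14 ta15)))) (.cat (.cat (.cat ta16 (.cat ta17 ta18)) (.cat (.cat ta19 ta20) (.cat ta21 ta22))) (.cat (.cat ta23 (.cat ta24 ta25)) (.cat (.cat ta26 ta27) (.cat ta28 ta29))))) (.cat (.cat (.cat (.cat ta30 (.cat ta31 ta32)) (.cat (.cat ta33 ta34) (.cat ta35 ta36))) (.cat (.cat ta37 (.cat ta38 ta39)) (.cat (.cat ta40 ta41) (.cat ta42 ta43)))) (.cat (.cat (.cat ta44 (.cat ta45 ta46)) (.cat (.cat ta47 ta48) (.cat ta49 ta50))) (.cat (.cat ta51 (.cat ta52 ta53)) (.cat (.cat ta54 ta55) (.cat ta56 ta57)))))) (.cat (.cat (.cat (.cat (.cat ta58 (.cat ta59 ta60)) (.cat (.cat ta61 ta62) (.cat ta63 ta64))) (.cat (.cat ta65 (.cat ta66 ta67))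 (.cat (.cat ta68 ta69) (.cat ta70 ta71)))) (.cat (.cat (.cat ta72 (.cat ta73 ta74)) (.cat (.cat ta75 ta76) (.cat ta77 ta78))) (.cat (.cat ta79 (.cat ta80 ta81)) (.cat (.cat ta82 ta83) (.cat ta84 ta85))))) (.cat (.cat (.cat (.cat ta86 (.cat ta87 ta88)) (.cat (.cat ta89 ta90) (.cat ta91 ta92))) (.cat (.cat ta93 (.cat ta94 ta95)) (.cat (.cat ta96 ta97) (.cat ta98 ta99)))) (.cat (.cat (.cat ta100 (.cat ta101 ta102)) (.cat (.cat ta103 ta104) (.cat ta105 ta106))) (.cat (.cat (.cat ta107 ta108) (.cat ta109 ta110)) (.cat (.cat ta111 ta112) (.cat ta113 ta114)))))))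
theorem oa1 : coverOK (stepH W) (msk ma) lev0 [] [] 0 [21, 0x1515, 0x15151515, 0x1515151515151515, 0x161616161616161616161616161616] 1 0 0 0 pa1.pts = true := by decide +kernel
noncomputable def ta1 : CT := .br 0 [21, 0x1515, 0x15151515, 0x1515151515151515, 0x161616161616161616161616161616] 1 0 0 0 pa1
theorem ca1 : CT.chk (stepH W) 122760 (msk ma) [0] ta1 false L0 [] [] = true :=
  chk_br_of oa1 (chk_cat_of (chk_cat_of (chk_cat_of (chk_cat_of (chk_cat_of (chk_cat_of ca2 (chk_cat_of ca3 ca4)) (chk_cat_of (chk_cat_of ca5 ca6) (chk_cat_of ca7 ca8))) (chk_cat_of (chk_cat_of ca9 (chk_cat_of ca10 ca11)) (chk_cat_of (chk_cat_of ca12 ca13) (chk_cat_of ca14 ca15)))) (chk_cat_of (chk_cat_of (chk_cat_of ca16 (chk_cat_of ca17 ca18)) (chk_cat_of (chk_cat_of ca19 ca20) (chk_cat_of ca21 ca22))) (chk_cat_of (chk_cat_of ca23 (chk_cat_of ca24 ca25)) (chk_cat_of (chk_cat_of ca26 ca27) (chk_cat_of ca28 ca29))))) (chk_cat_of (chk_cat_of (chk_cat_of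 (chk_cat_of ca30 (chk_cat_of ca31 ca32)) (chk_cat_of (chk_cat_of ca33 ca34) (chk_cat_of ca35 ca36))) (chk_cat_of (chk_cat_of ca37 (chk_cat_of ca38 ca39)) (chk_cat_of (chk_cat_of ca40 ca41) (chk_cat_of ca42 ca43)))) (chk_cat_of (chk_cat_of (chk_cat_of ca44 (chk_cat_of ca45 ca46)) (chk_cat_of (chk_cat_of ca47 ca48) (chk_cat_of ca49 ca50))) (chk_cat_of (chk_cat_of ca51 (chk_cat_of ca52 ca53)) (chk_cat_of (chk_cat_of ca54 ca55) (chk_cat_of ca56 ca57)))))) (chk_cat_of (chk_cat_of (chk_cat_of (chk_cat_of (chk_cat_of ca58 (chk_cat_of ca59 ca60)) (chk_cat_of (chk_cat_of ca61 ca62) (chk_cat_of ca63 ca64))) (chk_cat_of (chk_cat_of ca65 (chk_cat_of ca66 ca67)) (chk_cat_of (chk_cat_of ca68 ca69) (chk_cat_of ca70 ca71)))) (chk_cat_of (chk_cat_of (chk_cat_of ca72 (chk_cat_of ca73 ca74)) (chk_cat_of (chk_cat_of ca75 ca76) (chk_cat_of ca77 ca78))) (chk_cat_of (chk_cat_of ca79 (chk_cat_of ca80 ca81)) (chk_cat_of (chk_cat_of ca82 ca83) (chk_cat_of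 ca84 ca85))))) (chk_cat_of (chk_cat_of (chk_cat_of (chk_cat_of ca86 (chk_cat_of ca87 ca88)) (chk_cat_of (chk_cat_of ca89 ca90) (chk_cat_of ca91 ca92))) (chk_cat_of (chk_cat_of ca93 (chk_cat_of ca94 ca95)) (chk_cat_of (chk_cat_of ca96 ca97) (chk_cat_of ca98 ca99)))) (chk_cat_of (chk_cat_of (chk_cat_of ca100 (chk_cat_of ca101 ca102)) (chk_cat_of (chk_cat_of ca103 ca104) (chk_cat_of ca105 ca106))) (chk_cat_of (chk_cat_of (chk_cat_of ca107 ca108) (chk_cat_of ca109 ca110)) (chk_cat_of (chk_cat_of ca111 ca112) (chk_cat_of ca113 ca114)))))))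
noncomputable def pl115 : CT := (.cat (.cat (.cat (.cat (.cat (.cat (.cat tl116 (.cat tl117 tl118)) (.cat (.cat tl119 tl120) (.cat tl121 tl122))) (.cat (.cat (.cat tl123 tl124) (.cat tl125 tl126)) (.cat (.cat tl127 tl128) (.cat tl129 tl130)))) (.cat (.cat (.cat tl131 (.cat tl132 tl133)) (.cat (.cat tl134 tl135) (.cat tl136 tl137))) (.cat (.cat (.cat tl138 tl139) (.cat tl140 tl141)) (.cat (.cat tl142 tl143) (.cat tl144 tl145))))) (.cat (.cat (.cat (.cat tl146 (.cat tl147 tl148)) (.cat (.cat tl149 tl150) (.cat tl151 tl152))) (.cat (.cat (.cat tl153 tl154) (.cat tl155 tl156)) (.cat (.cat tl157 tl158) (.cat tl159 tl160)))) (.cat (.cat (.cat tl161 (.cat tl162 tl163)) (.cat (.cat tl164 tl165) (.cat tl166 tl167))) (.cat (.cat (.cat tl168 tl169) (.cat tl170 tl171)) (.cat (.cat tl172 tl173) (.cat tl174 tl175)))))) (.cat (.cat (.cat (.cat (.cat tl176 (.cat tl177 tl178)) (.cat (.cat tl179 tl180) (.cat tl181 tl182))) (.cat (.cat (.cat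 tl183 tl184) (.cat tl185 tl186)) (.cat (.cat tl187 tl188) (.cat tl189 tl190)))) (.cat (.cat (.cat tl191 (.cat tl192 tl193)) (.cat (.cat tl194 tl195) (.cat tl196 tl197))) (.cat (.cat (.cat tl198 tl199) (.cat tl200 tl201)) (.cat (.cat tl202 tl203) (.cat tl204 tl205))))) (.cat (.cat (.cat (.cat tl206 (.cat tl207 tl208)) (.cat (.cat tl209 tl210) (.cat tl211 tl212))) (.cat (.cat (.cat tl213 tl214) (.cat tl215 tl216)) (.cat (.cat tl217 tl218) (.cat tl219 tl220)))) (.cat (.cat (.cat tl221 (.cat tl222 tl223)) (.cat (.cat tl224 tl225) (.cat tl226 tl227))) (.cat (.cat (.cat tl228 tl229) (.cat tl230 tl231)) (.cat (.cat tl232 tl233) (.cat tl234 tl235))))))) (.cat (.cat (.cat (.cat (.cat (.cat tl236 (.cat tl237 tl238)) (.cat (.cat tl239 tl240) (.cat tl241 tl242))) (.cat (.cat (.cat tl243 tl244) (.cat tl245 tl246)) (.cat (.cat tl247 tl248) (.cat tl249 tl250)))) (.cat (.cat (.cat tl251 (.cat tl252 tl253)) (.cat (.cat tl254 tl255) (.cat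 tl256 tl257))) (.cat (.cat (.cat tl258 tl259) (.cat tl260 tl261)) (.cat (.cat tl262 tl263) (.cat tl264 tl265))))) (.cat (.cat (.cat (.cat tl266 (.cat tl267 tl268)) (.cat (.cat tl269 tl270) (.cat tl271 tl272))) (.cat (.cat (.cat tl273 tl274) (.cat tl275 tl276)) (.cat (.cat tl277 tl278) (.cat tl279 tl280)))) (.cat (.cat (.cat tl281 (.cat tl282 tl283)) (.cat (.cat tl284 tl285) (.cat tl286 tl287))) (.cat (.cat (.cat tl288 tl289) (.cat tl290 tl291)) (.cat (.cat tl292 tl293) (.cat tl294 tl295)))))) (.cat (.cat (.cat (.cat (.cat tl296 (.cat tl297 tl298)) (.cat (.cat tl299 tl300) (.cat tl301 tl302))) (.cat (.cat (.cat tl303 tl304) (.cat tl305 tl306)) (.cat (.cat tl307 tl308) (.cat tl309 tl310)))) (.cat (.cat (.cat tl311 (.cat tl312 tl313)) (.cat (.cat tl314 tl315) (.cat tl316 tl317))) (.cat (.cat (.cat tl318 tl319) (.cat tl320 tl321)) (.cat (.cat tl322 tl323) (.cat tl324 tl325))))) (.cat (.cat (.cat (.cat tl326 (.cat tl327 tl328))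 (.cat (.cat tl329 tl330) (.cat tl331 tl332))) (.cat (.cat (.cat tl333 tl334) (.cat tl335 tl336)) (.cat (.cat tl337 tl338) (.cat tl339 tl340)))) (.cat (.cat (.cat tl341 (.cat tl342 tl343)) (.cat (.cat tl344 tl345) (.cat tl346 tl347))) (.cat (.cat (.cat tl348 tl349) (.cat tl350 tl351)) (.cat (.cat tl352 tl353) (.cat tl354 tl355))))))))
theorem ol115 : coverOK (stepH W) (msk ml) lev0 [] [] 0 [2, 0x202, 0x2020202, 0x5050505050505] 1 0 0 0 pl115.pts = true := by decide +kernel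
noncomputable def tl115 : CT := .br 0 [2, 0x202, 0x2020202, 0x5050505050505] 1 0 0 0 pl115
theorem cl115 : CT.chk (stepH W) 122760 (msk ml) D.V tl115 false L0 [] [] = true :=
  chk_br_of ol115 (chk_cat_of (chk_cat_of (chk_cat_of (chk_cat_of (chk_cat_of (chk_cat_of (chk_cat_of cl116 (chk_cat_of cl117 cl118)) (chk_cat_of (chk_cat_of cl119 cl120) (chk_cat_of cl121 cl122))) (chk_cat_of (chk_cat_of (chk_cat_of cl123 cl124) (chk_cat_of cl125 cl126)) (chk_cat_of (chk_cat_of cl127 cl128) (chk_cat_of cl129 cl130)))) (chk_cat_of (chk_cat_of (chk_cat_of cl131 (chk_cat_of cl132 cl133)) (chk_cat_of (chk_cat_of cl134 cl135) (chk_cat_of cl136 cl137))) (chk_cat_of (chk_cat_of (chk_cat_of cl138 cl139) (chk_cat_of cl140 cl141)) (chk_cat_of (chk_cat_of cl142 cl143) (chk_cat_of cl144 cl145))))) (chk_cat_of (chk_cat_of (chk_cat_of (chk_cat_of cl146 (chk_cat_of cl147 cl148)) (chk_cat_of (chk_cat_of cl149 cl150) (chk_cat_of cl151 cl152))) (chk_cat_of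 (chk_cat_of (chk_cat_of cl153 cl154) (chk_cat_of cl155 cl156)) (chk_cat_of (chk_cat_of cl157 cl158) (chk_cat_of cl159 cl160)))) (chk_cat_of (chk_cat_of (chk_cat_of cl161 (chk_cat_of cl162 cl163)) (chk_cat_of (chk_cat_of cl164 cl165) (chk_cat_of cl166 cl167))) (chk_cat_of (chk_cat_of (chk_cat_of cl168 cl169) (chk_cat_of cl170 cl171)) (chk_cat_of (chk_cat_of cl172 cl173) (chk_cat_of cl174 cl175)))))) (chk_cat_of (chk_cat_of (chk_cat_of (chk_cat_of (chk_cat_of cl176 (chk_cat_of cl177 cl178)) (chk_cat_of (chk_cat_of cl179 cl180) (chk_cat_of cl181 cl182))) (chk_cat_of (chk_cat_of (chk_cat_of cl183 cl184) (chk_cat_of cl185 cl186)) (chk_cat_of (chk_cat_of cl187 cl188) (chk_cat_of cl189 cl190)))) (chk_cat_of (chk_cat_of (chk_cat_of cl191 (chk_cat_of cl192 cl193)) (chk_cat_of (chk_cat_of cl194 cl195) (chk_cat_of cl196 cl197))) (chk_cat_of (chk_cat_of (chk_cat_of cl198 cl199) (chk_cat_of cl200 cl201)) (chk_cat_of (chk_cat_of cl202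 cl203) (chk_cat_of cl204 cl205))))) (chk_cat_of (chk_cat_of (chk_cat_of (chk_cat_of cl206 (chk_cat_of cl207 cl208)) (chk_cat_of (chk_cat_of cl209 cl210) (chk_cat_of cl211 cl212))) (chk_cat_of (chk_cat_of (chk_cat_of cl213 cl214) (chk_cat_of cl215 cl216)) (chk_cat_of (chk_cat_of cl217 cl218) (chk_cat_of cl219 cl220)))) (chk_cat_of (chk_cat_of (chk_cat_of cl221 (chk_cat_of cl222 cl223)) (chk_cat_of (chk_cat_of cl224 cl225) (chk_cat_of cl226 cl227))) (chk_cat_of (chk_cat_of (chk_cat_of cl228 cl229) (chk_cat_of cl230 cl231)) (chk_cat_of (chk_cat_of cl232 cl233) (chk_cat_of cl234 cl235))))))) (chk_cat_of (chk_cat_of (chk_cat_of (chk_cat_of (chk_cat_of (chk_cat_of cl236 (chk_cat_of cl237 cl238)) (chk_cat_of (chk_cat_of cl239 cl240) (chk_cat_of cl241 cl242))) (chk_cat_of (chk_cat_of (chk_cat_of cl243 cl244) (chk_cat_of cl245 cl246)) (chk_cat_of (chk_cat_of cl247 cl248) (chk_cat_of cl249 cl250)))) (chk_cat_of (chk_cat_of (chk_cat_of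 cl251 (chk_cat_of cl252 cl253)) (chk_cat_of (chk_cat_of cl254 cl255) (chk_cat_of cl256 cl257))) (chk_cat_of (chk_cat_of (chk_cat_of cl258 cl259) (chk_cat_of cl260 cl261)) (chk_cat_of (chk_cat_of cl262 cl263) (chk_cat_of cl264 cl265))))) (chk_cat_of (chk_cat_of (chk_cat_of (chk_cat_of cl266 (chk_cat_of cl267 cl268)) (chk_cat_of (chk_cat_of cl269 cl270) (chk_cat_of cl271 cl272))) (chk_cat_of (chk_cat_of (chk_cat_of cl273 cl274) (chk_cat_of cl275 cl276)) (chk_cat_of (chk_cat_of cl277 cl278) (chk_cat_of cl279 cl280)))) (chk_cat_of (chk_cat_of (chk_cat_of cl281 (chk_cat_of cl282 cl283)) (chk_cat_of (chk_cat_of cl284 cl285) (chk_cat_of cl286 cl287))) (chk_cat_of (chk_cat_of (chk_cat_of cl288 cl289) (chk_cat_of cl290 cl291)) (chk_cat_of (chk_cat_of cl292 cl293) (chk_cat_of cl294 cl295)))))) (chk_cat_of (chk_cat_of (chk_cat_of (chk_cat_of (chk_cat_of cl296 (chk_cat_of cl297 cl298)) (chk_cat_of (chk_cat_of cl299 cl300) (chk_cat_of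 cl301 cl302))) (chk_cat_of (chk_cat_of (chk_cat_of cl303 cl304) (chk_cat_of cl305 cl306)) (chk_cat_of (chk_cat_of cl307 cl308) (chk_cat_of cl309 cl310)))) (chk_cat_of (chk_cat_of (chk_cat_of cl311 (chk_cat_of cl312 cl313)) (chk_cat_of (chk_cat_of cl314 cl315) (chk_cat_of cl316 cl317))) (chk_cat_of (chk_cat_of (chk_cat_of cl318 cl319) (chk_cat_of cl320 cl321)) (chk_cat_of (chk_cat_of cl322 cl323) (chk_cat_of cl324 cl325))))) (chk_cat_of (chk_cat_of (chk_cat_of (chk_cat_of cl326 (chk_cat_of cl327 cl328)) (chk_cat_of (chk_cat_of cl329 cl330) (chk_cat_of cl331 cl332))) (chk_cat_of (chk_cat_of (chk_cat_of cl333 cl334) (chk_cat_of cl335 cl336)) (chk_cat_of (chk_cat_of cl337 cl338) (chk_cat_of cl339 cl340)))) (chk_cat_of (chk_cat_of (chk_cat_of cl341 (chk_cat_of cl342 cl343)) (chk_cat_of (chk_cat_of cl344 cl345) (chk_cat_of cl346 cl347))) (chk_cat_of (chk_cat_of (chk_cat_of cl348 cl349) (chk_cat_of cl350 cl351)) (chk_cat_of (chk_cat_of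 cl352 cl353) (chk_cat_of cl354 cl355))))))))
theorem om {G Ω : Type*} [Group G] [MulAction G Ω] {pt : ℕ → Ω} (M : PModel G 122760 pt)
    (h : AllReal G 122760 pt CfsgLib.MultC.ON.V0) (hG : Nat.card G = 460815505920) :
    Nat.card (Cfsg.Out G) = Nat.card (Cfsg.Out (PW 122760 W)) ∧ ∃ g, OM 122760 W 460815505920 L0 g := by
  have h1 := CfsgLib.MultC.ON.realU h
  exact exists_om M (W := W) rfl hG (by norm_num) (AllReal.cons (h1.word (by norm_num) g0) (AllReal.cons (h1.word (by norm_num) g1)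
    (AllReal.cons (h1.word (by norm_num) g2) AllReal.nil))) realW lb sets

theorem le {g : ℕ → PW 122760 W} (O : OM 122760 W 460815505920 L0 g) : Nat.card (Cfsg.Out (PW 122760 W)) ≤ 2 :=
  O.card_le D (show Nat.Prime 31 by norm_num) (show ¬ 31 ^ 2 ∣ _ by norm_num) (show Nat.Coprime 6 31 by norm_num)
    hl hb a0 a1 ca1 l1 cl115 (lt_step (lt_step (lt_step (lt_step (lt_step (lt_step (lt_step (lt_step (lt_step (lt_step (lt_nil _) cand0) cand1) cand2) cand3) cand4) cand5) cand6) cand7) cand8) cand9) (by decide +kernel)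


end CfsgLib.MultC.ON.O
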